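import Mathlib

/-!
# Fibrewise exactness locus: elementary lemmas on vectors over a localization and over a quotient
-/

set_option autoImplicit false
universe u

namespace Groth.Agent.H46.FibExactOpen

section smulTop

variable {L : Type*} [CommRing L] (I : Ideal L) {n : ℕ}

/-- Membership in `I • ⊤` for vectors. -/
theorem mem_smul_top_pi_iff (v : Fin n → L) :
    v ∈ I • (⊤ : Submodule L (Fin n → L)) ↔ ∀ j, v j ∈ I := by
  constructor
  · intro hv
    refine Submodule.smul_induction_on hv ?_ ?_
    · intro a ha w _ j
      rw [Pi.smul_apply, smul_eq_mul]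
      exact I.mul_mem_right _ ha
    · intro x y hx hy j
      rw [Pi.add_apply]
      exact I.add_mem (hx j) (hy j)
  · intro hv
    have : v = ∑ j, v j • (Pi.single j (1 : L) : Fin n → L) := by
      funext i
      simp [Finset.sum_apply, Pi.single_apply]
    rw [this]
    exact Submodule.sum_mem _ fun j _ => Submodule.smul_mem_smul (hv j) trivial

/-- A vector reduces to zero modulo `I` iff it lies in `I • ⊤`. -/
theorem mk_comp_eq_zero_iff (v : Fin n → L) :
    (Ideal.Quotient.mk I ∘ v = 0) ↔ v ∈ I • (⊤ : Submodule L (Fin n → L)) := by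
  rw [mem_smul_top_pi_iff]
  constructor
  · intro h j
    have := congrFun h j
    rwa [Function.comp_apply, Pi.zero_apply, Ideal.Quotient.eq_zero_iff_mem] at this
  · intro h
    funext j
    rw [Function.comp_apply, Pi.zero_apply, Ideal.Quotient.eq_zero_iff_mem]
    exact h j

theorem exists_mk_comp_eq (w : Fin n → L ⧸ I) : ∃ v : Fin n → L, Ideal.Quotient.mk I ∘ v = w :=
  ⟨fun j => (Ideal.Quotient.mk_surjective (w j)).choose,
    funext fun j => (Ideal.Quotient.mk_surjective (w j)).choose_spec⟩

end smulTop

section matrix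

variable {S L : Type*} [CommRing S] [CommRing L] (f : S →+* L) {a b c : ℕ}

theorem map_mulVec_comp (ψ : Matrix (Fin a) (Fin b) S) (v : Fin b → S) :
    (ψ.map f).mulVec (f ∘ v) = f ∘ (ψ.mulVec v) :=
  funext fun i => (RingHom.map_mulVec f ψ v i).symm

end matrix

section loc

variable {S : Type*} [CommRing S] (M : Submonoid S) (L : Type*) [CommRing L] [Algebra S L]
  [IsLocalization M L] {n : ℕ}

/-- Clearing denominators of a vector. -/
theorem exists_smul_eq_comp (v : Fin n → L) :
    ∃ s ∈ M, ∃ w : Fin n → S, algebraMap S L s • v = algebraMap S L ∘ w := by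
  obtain ⟨s, hs⟩ := IsLocalization.exist_integer_multiples_of_finite M v
  choose w hw using hs
  refine ⟨s, s.2, w, ?_⟩
  funext j
  rw [Pi.smul_apply, Function.comp_apply, hw j, smul_eq_mul, Algebra.smul_def]

/-- A vector that vanishes in the localization is killed by a denominator. -/
theorem exists_smul_eq_zero_of_comp_eq_zero (w : Fin n → S) (h : algebraMap S L ∘ w = 0) :
    ∃ s ∈ M, s • w = 0 := by
  have h1 : ∀ j, ∃ s : M, (s : S) * w j = 0 := by
    intro j
    have := congrFun h j
    rw [Function.comp_apply, Pi.zero_apply, IsLocalization.map_eq_zero_iff M] at this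
    exact this
  choose s hs using h1
  refine ⟨∏ j, (s j : S), M.prod_mem fun j _ => (s j).2, ?_⟩
  funext j
  rw [Pi.smul_apply, Pi.zero_apply, smul_eq_mul]
  obtain ⟨k, hk⟩ := Finset.dvd_prod_of_mem (fun j => (s j : S)) (Finset.mem_univ j)
  rw [hk, mul_comm (s j : S), mul_assoc, hs j, mul_zero]

end loc

end Groth.Agent.H46.FibExactOpen
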