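import Mathlib
import Groth.Agent.H2.InjModMax
import Groth.Agent.H46.FibExactOpen.Basic

/-!
# Fibrewise exactness locus: the local criterion

For a prime `q` of `S` over `p` of `R`, matrices `ψ`, `χ` over `S` with `ψ χ = 0`, and
`u_q : coker χ_q → S_q^a` induced by `ψ`: the map `u_q` is injective modulo `p` iff it is injective
with `R`-flat cokernel.
-/

set_option autoImplicit false
set_option linter.style.haveILetI false
universe u

open IsLocalRing

namespace Groth.Agent.H46.FibExactOpen

section Local

variable (R : Type u) {S : Type u} [CommRing R] [CommRing S] [Algebra R S] (q : Ideal S) [q.IsPrime]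

/-- The ideal `p S_q`, `p = q ∩ R`. -/
abbrev fibIdeal : Ideal (Localization.AtPrime q) :=
  (q.comap (algebraMap R S)).map (algebraMap R (Localization.AtPrime q))

variable {R}
variable {a b c : ℕ} (ψ : Matrix (Fin a) (Fin b) S) (χ : Matrix (Fin b) (Fin c) S)

/-- A matrix over `S` seen over `S_q`. -/
abbrev locMat (ψ : Matrix (Fin a) (Fin b) S) : Matrix (Fin a) (Fin b) (Localization.AtPrime q) :=
  ψ.map (algebraMap S (Localization.AtPrime q))

theorem locMat_mul (h0 : ψ * χ = 0) : locMat q ψ * locMat q χ = 0 := by
  rw [locMat, locMat, ← Matrix.map_mul, h0]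
  exact Matrix.map_zero _ (map_zero _)

theorem range_le_ker (h0 : ψ * χ = 0) :
    LinearMap.range (locMat q χ).mulVecLin ≤ LinearMap.ker (locMat q ψ).mulVecLin := by
  rintro _ ⟨w, rfl⟩
  rw [LinearMap.mem_ker, Matrix.mulVecLin_apply, Matrix.mulVecLin_apply, Matrix.mulVec_mulVec,
    locMat_mul q ψ χ h0, Matrix.zero_mulVec]

/-- The cokernel of `χ` over `S_q`. -/
abbrev Cq : Type u := (Fin b → Localization.AtPrime q) ⧸ LinearMap.range (locMat q χ).mulVecLin

/-- The map `coker χ_q → S_q^a` induced by `ψ`. -/
noncomputable def uq (h0 : ψ * χ = 0) :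
    Cq q χ →ₗ[Localization.AtPrime q] (Fin a → Localization.AtPrime q) :=
  Submodule.liftQ _ (locMat q ψ).mulVecLin (range_le_ker q ψ χ h0)

theorem uq_mk (h0 : ψ * χ = 0) (v : Fin b → Localization.AtPrime q) :
    uq q ψ χ h0 (Submodule.Quotient.mk v) = (locMat q ψ).mulVec v := rfl

theorem range_uq (h0 : ψ * χ = 0) :
    LinearMap.range (uq q ψ χ h0) = LinearMap.range (locMat q ψ).mulVecLin :=
  Submodule.range_liftQ _ _ _

/-- The fibre condition: `u_q` is injective modulo `p`. -/
def FibInj (h0 : ψ * χ = 0) : Prop :=
  ∀ x : Cq q χ, uq q ψ χ h0 x ∈ fibIdeal R q • (⊤ : Submodule (Localization.AtPrime q)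
    (Fin a → Localization.AtPrime q)) →
    x ∈ fibIdeal R q • (⊤ : Submodule (Localization.AtPrime q) (Cq q χ))

/-- Injective with flat cokernel implies injective on the fibre. -/
theorem fibInj_of_injective_of_flat (h0 : ψ * χ = 0)
    (hinj : Function.Injective (uq q ψ χ h0))
    (hflat : Module.Flat R ((Fin a → Localization.AtPrime q) ⧸
      LinearMap.range (locMat q ψ).mulVecLin)) : FibInj (R := R) q ψ χ h0 := by
  let f : Cq q χ →ₗ[R] (Fin a → Localization.AtPrime q) := (uq q ψ χ h0).restrictScalars R
  let g : (Fin a → Localization.AtPrime q) →ₗ[R] ((Fin a → Localization.AtPrime q) ⧸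
      LinearMap.range (locMat q ψ).mulVecLin) :=
    (LinearMap.range (locMat q ψ).mulVecLin).mkQ.restrictScalars R
  have hexact : Function.Exact f g := by
    intro y
    change (LinearMap.range (locMat q ψ).mulVecLin).mkQ y = 0 ↔ y ∈ Set.range (uq q ψ χ h0)
    rw [Submodule.mkQ_apply, Submodule.Quotient.mk_eq_zero, ← range_uq q ψ χ h0]
    rfl
  have hg : Function.Surjective g :=
    Submodule.mkQ_surjective (LinearMap.range (locMat q ψ).mulVecLin)
  have hT : Groth.Agent.H2.Tor1Zero R ((Fin a → Localization.AtPrime q) ⧸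
      LinearMap.range (locMat q ψ).mulVecLin) (R ⧸ q.comap (algebraMap R S)) :=
    Groth.Agent.H2.tor1Zero_of_flat_left
  have h1 : Function.Injective (f.lTensor (R ⧸ q.comap (algebraMap R S))) :=
    Groth.Agent.H2.lTensor_injective_of_tor1Zero f g hinj hexact hg hT
  have h2 := (Groth.Agent.H2.lTensor_quotient_injective_iff (q.comap (algebraMap R S)) f).mp h1
  intro x hx
  rw [fibIdeal, Groth.Agent.H2.mem_map_smul_top_iff] at hx ⊢
  exact h2 x hx

section forward

variable [IsNoetherianRing S] [Module.Flat R S]

attribute [local instance] Localization.AtPrime.algebraOfLiesOver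

theorem map_maximalIdeal_eq_fibIdeal :
    (maximalIdeal (Localization.AtPrime (q.under R))).map
      (algebraMap (Localization.AtPrime (q.under R)) (Localization.AtPrime q)) = fibIdeal R q := by
  rw [← Localization.AtPrime.map_eq_maximalIdeal, Ideal.map_map,
    ← IsScalarTower.algebraMap_eq R (Localization.AtPrime (q.under R)) (Localization.AtPrime q)]

/-- Injective on the fibre implies injective with flat cokernel (Stacks 00ME). -/
theorem injective_and_flat_of_fibInj (h0 : ψ * χ = 0) (h : FibInj (R := R) q ψ χ h0) :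
    Function.Injective (uq q ψ χ h0) ∧
      Module.Flat R ((Fin a → Localization.AtPrime q) ⧸
        LinearMap.range (locMat q ψ).mulVecLin) := by
  haveI : IsNoetherianRing (Localization.AtPrime q) :=
    IsLocalization.isNoetherianRing q.primeCompl _ inferInstance
  haveI : Module.Flat (Localization.AtPrime (q.under R)) (Fin a → Localization.AtPrime q) :=
    Module.Flat.trans (Localization.AtPrime (q.under R)) (Localization.AtPrime q) _
  let uRp : Cq q χ →ₗ[Localization.AtPrime (q.under R)] (Fin a → Localization.AtPrime q) :=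
    (uq q ψ χ h0).restrictScalars (Localization.AtPrime (q.under R))
  have h1 : Function.Injective (uRp.lTensor (Localization.AtPrime (q.under R) ⧸
      maximalIdeal (Localization.AtPrime (q.under R)))) := by
    rw [Groth.Agent.H2.lTensor_quotient_injective_iff]
    intro x hx
    rw [← Groth.Agent.H2.mem_map_smul_top_iff (S := Localization.AtPrime q),
      map_maximalIdeal_eq_fibIdeal] at hx ⊢
    exact h x hx
  obtain ⟨hinj, hflat⟩ := Groth.Agent.H2.injective_and_flat_of_injective_residue
    (Localization.AtPrime q) uRp h1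
  refine ⟨hinj, ?_⟩
  have hflatR : Module.Flat R ((Fin a → Localization.AtPrime q) ⧸ LinearMap.range uRp) :=
    (Module.flat_iff_of_isLocalization (Localization.AtPrime (q.under R))
      (q.under R).primeCompl _).mp hflat
  have hle : ∀ y : Fin a → Localization.AtPrime q,
      y ∈ LinearMap.range uRp ↔ y ∈ LinearMap.range (locMat q ψ).mulVecLin := by
    intro y
    rw [← range_uq q ψ χ h0]
    rfl
  have hP : (LinearMap.range uRp).restrictScalars R =
      (LinearMap.range (locMat q ψ).mulVecLin).restrictScalars R :=
    Submodule.ext fun y => by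
      rw [Submodule.restrictScalars_mem, Submodule.restrictScalars_mem]
      exact hle y
  let e : ((Fin a → Localization.AtPrime q) ⧸ LinearMap.range uRp) ≃ₗ[R]
      ((Fin a → Localization.AtPrime q) ⧸ LinearMap.range (locMat q ψ).mulVecLin) :=
    (Submodule.Quotient.restrictScalarsEquiv R (LinearMap.range uRp)).symm ≪≫ₗ
      (Submodule.quotEquivOfEq _ _ hP) ≪≫ₗ
      (Submodule.Quotient.restrictScalarsEquiv R (LinearMap.range (locMat q ψ).mulVecLin))
  exact Module.Flat.of_linearEquiv e.symm

end forward

end Local

end Groth.Agent.H46.FibExactOpen
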