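import Mathlib
import Groth.Agent.H46.FibExactOpen.Local

/-!
# Fibrewise exactness locus: exactness over the fibre local ring in terms of `FibInj`
-/

set_option autoImplicit false
set_option linter.style.haveILetI false
universe u

namespace Groth.Agent.H46.FibExactOpen

section Fibre

variable {R : Type u} {S : Type u} [CommRing R] [CommRing S] [Algebra R S] (q : Ideal S) [q.IsPrime]
variable {a b c : ℕ} (ψ : Matrix (Fin a) (Fin b) S) (χ : Matrix (Fin b) (Fin c) S)

theorem map_algebraMap_quotient (ψ : Matrix (Fin a) (Fin b) S) :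
    ψ.map (algebraMap S (Localization.AtPrime q ⧸ fibIdeal R q)) =
      (locMat q ψ).map (Ideal.Quotient.mk (fibIdeal R q)) := by
  rw [locMat, Matrix.map_map]
  rfl

theorem mk_mem_smul_top_of_mem {I : Ideal (Localization.AtPrime q)}
    (v : Fin b → Localization.AtPrime q)
    (hv : v ∈ I • (⊤ : Submodule (Localization.AtPrime q) (Fin b → Localization.AtPrime q))) :
    (Submodule.Quotient.mk v : Cq q χ) ∈ I • (⊤ : Submodule (Localization.AtPrime q) (Cq q χ)) := by
  have h1 : (LinearMap.range (locMat q χ).mulVecLin).mkQ v ∈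
      (I • (⊤ : Submodule (Localization.AtPrime q) (Fin b → Localization.AtPrime q))).map
        (LinearMap.range (locMat q χ).mulVecLin).mkQ := Submodule.mem_map_of_mem hv
  rw [Submodule.map_smul''] at h1
  exact Submodule.smul_mono le_rfl le_top h1

theorem exists_mem_smul_top_of_mk_mem {I : Ideal (Localization.AtPrime q)}
    (v : Fin b → Localization.AtPrime q)
    (hv : (Submodule.Quotient.mk v : Cq q χ) ∈
      I • (⊤ : Submodule (Localization.AtPrime q) (Cq q χ))) :
    ∃ v' ∈ I • (⊤ : Submodule (Localization.AtPrime q) (Fin b → Localization.AtPrime q)),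
      ∃ w : Fin c → Localization.AtPrime q, v = v' + (locMat q χ).mulVec w := by
  have h1 : (I • (⊤ : Submodule (Localization.AtPrime q) (Cq q χ))) =
      (I • (⊤ : Submodule (Localization.AtPrime q) (Fin b → Localization.AtPrime q))).map
        (LinearMap.range (locMat q χ).mulVecLin).mkQ := by
    rw [Submodule.map_smul'', Submodule.map_top, Submodule.range_mkQ]
  rw [h1] at hv
  obtain ⟨v', hv', hvv'⟩ := hv
  refine ⟨v', hv', ?_⟩
  rw [Submodule.mkQ_apply, Submodule.Quotient.eq] at hvv'
  obtain ⟨w, hw⟩ := hvv'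
  refine ⟨-w, ?_⟩
  rw [Matrix.mulVec_neg]
  have : (locMat q χ).mulVec w = v' - v := hw
  rw [this]
  abel

/-- Exactness of the pair of matrices over the fibre local ring, in terms of `FibInj`. -/
theorem ker_eq_range_iff_fibInj (h0 : ψ * χ = 0) :
    LinearMap.ker (Matrix.mulVecLin
      (ψ.map (algebraMap S (Localization.AtPrime q ⧸ fibIdeal R q)))) =
      LinearMap.range (Matrix.mulVecLin
        (χ.map (algebraMap S (Localization.AtPrime q ⧸ fibIdeal R q)))) ↔
      FibInj (R := R) q ψ χ h0 := by
  rw [map_algebraMap_quotient, map_algebraMap_quotient]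
  set mk := Ideal.Quotient.mk (fibIdeal R q) with hmk
  constructor
  · intro hker x hx
    obtain ⟨v, rfl⟩ := Submodule.Quotient.mk_surjective _ x
    rw [uq_mk, ← mk_comp_eq_zero_iff, ← map_mulVec_comp] at hx
    have h1 : mk ∘ v ∈ LinearMap.ker ((locMat q ψ).map mk).mulVecLin := by
      rw [LinearMap.mem_ker, Matrix.mulVecLin_apply]
      exact hx
    rw [hker] at h1
    obtain ⟨wbar, hw⟩ := h1
    obtain ⟨w, rfl⟩ := exists_mk_comp_eq (fibIdeal R q) wbar
    rw [Matrix.mulVecLin_apply, map_mulVec_comp] at hw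
    have h2 : v - (locMat q χ).mulVec w ∈ fibIdeal R q •
        (⊤ : Submodule (Localization.AtPrime q) (Fin b → Localization.AtPrime q)) := by
      rw [← mk_comp_eq_zero_iff]
      funext j
      have := congrFun hw j
      simp only [Function.comp_apply, Pi.sub_apply, Pi.zero_apply, map_sub] at this ⊢
      rw [this, sub_self]
    have h3 : (Submodule.Quotient.mk v : Cq q χ) =
        Submodule.Quotient.mk (v - (locMat q χ).mulVec w) := by
      rw [Submodule.Quotient.eq]
      refine ⟨w, ?_⟩
      rw [Matrix.mulVecLin_apply]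
      abel
    rw [h3]
    exact mk_mem_smul_top_of_mem q χ _ h2
  · intro hfib
    apply le_antisymm
    · intro vbar hv
      obtain ⟨v, rfl⟩ := exists_mk_comp_eq (fibIdeal R q) vbar
      rw [LinearMap.mem_ker, Matrix.mulVecLin_apply, map_mulVec_comp, mk_comp_eq_zero_iff,
        ← uq_mk q ψ χ h0] at hv
      obtain ⟨v', hv', w, rfl⟩ := exists_mem_smul_top_of_mk_mem q χ v (hfib _ hv)
      refine ⟨mk ∘ w, ?_⟩
      rw [Matrix.mulVecLin_apply, map_mulVec_comp]
      rw [← mk_comp_eq_zero_iff] at hv'
      funext j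
      have := congrFun hv' j
      simp only [Function.comp_apply, Pi.add_apply, Pi.zero_apply, map_add] at this ⊢
      rw [this, zero_add]
    · rintro _ ⟨w, rfl⟩
      rw [LinearMap.mem_ker, Matrix.mulVecLin_apply, Matrix.mulVecLin_apply, Matrix.mulVec_mulVec,
        ← Matrix.map_mul, locMat_mul q ψ χ h0]
      rw [Matrix.map_zero _ (map_zero _), Matrix.zero_mulVec]

end Fibre

end Groth.Agent.H46.FibExactOpen
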