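import Mathlib
import Groth.Agent.H46.FibExactOpen.Fibre
import Groth.Agent.H1.FlatLocusA

/-!
# Fibrewise exactness locus: openness
-/

set_option autoImplicit false
set_option linter.style.haveILetI false
universe u

namespace Groth.Agent.H46.FibExactOpen

section Inj

variable {S : Type u} [CommRing S] (q : Ideal S) [q.IsPrime]
variable {a b c : ℕ} (ψ : Matrix (Fin a) (Fin b) S) (χ : Matrix (Fin b) (Fin c) S)

/-- The global condition at `q` expressing exactness of the localized pair. -/
def LocExact : Prop :=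
  ∀ v : Fin b → S, ψ.mulVec v = 0 → ∃ s ∉ q, s • v ∈ LinearMap.range χ.mulVecLin

theorem injective_uq_iff (h0 : ψ * χ = 0) :
    Function.Injective (uq q ψ χ h0) ↔
      ∀ v : Fin b → Localization.AtPrime q, (locMat q ψ).mulVec v = 0 →
        v ∈ LinearMap.range (locMat q χ).mulVecLin := by
  constructor
  · intro hinj v hv
    have h1 : uq q ψ χ h0 (Submodule.Quotient.mk v) = uq q ψ χ h0 0 := by
      rw [uq_mk, hv, map_zero]
    have h2 := hinj h1
    rwa [Submodule.Quotient.mk_eq_zero] at h2
  · intro h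
    rw [injective_iff_map_eq_zero]
    intro x hx
    obtain ⟨v, rfl⟩ := Submodule.Quotient.mk_surjective _ x
    rw [uq_mk] at hx
    rw [Submodule.Quotient.mk_eq_zero]
    exact h v hx

theorem locMat_mulVec_comp (ψ : Matrix (Fin a) (Fin b) S) (v : Fin b → S) :
    (locMat q ψ).mulVec (algebraMap S (Localization.AtPrime q) ∘ v) =
      algebraMap S (Localization.AtPrime q) ∘ ψ.mulVec v :=
  map_mulVec_comp _ ψ v

theorem comp_smul (s : S) (v : Fin b → S) :
    algebraMap S (Localization.AtPrime q) ∘ (s • v) =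
      algebraMap S (Localization.AtPrime q) s • (algebraMap S (Localization.AtPrime q) ∘ v) := by
  funext j
  simp

theorem injective_uq_iff_locExact (h0 : ψ * χ = 0) :
    Function.Injective (uq q ψ χ h0) ↔ LocExact q ψ χ := by
  rw [injective_uq_iff]
  constructor
  · intro h v hv
    have h1 : (locMat q ψ).mulVec (algebraMap S (Localization.AtPrime q) ∘ v) = 0 := by
      rw [locMat_mulVec_comp, hv]
      funext j
      simp
    obtain ⟨w, hw⟩ := h _ h1
    rw [Matrix.mulVecLin_apply] at hw
    obtain ⟨s, hs, w', hw'⟩ := exists_smul_eq_comp q.primeCompl (Localization.AtPrime q) w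
    have h2 : algebraMap S (Localization.AtPrime q) ∘ (s • v - χ.mulVec w') = 0 := by
      have e1 : algebraMap S (Localization.AtPrime q) ∘ (s • v - χ.mulVec w') =
          algebraMap S (Localization.AtPrime q) ∘ (s • v) -
            algebraMap S (Localization.AtPrime q) ∘ (χ.mulVec w') := by
        funext j
        simp
      rw [e1, comp_smul, ← locMat_mulVec_comp, ← hw', Matrix.mulVec_smul, hw, sub_self]
    obtain ⟨t, ht, h3⟩ := exists_smul_eq_zero_of_comp_eq_zero q.primeCompl
      (Localization.AtPrime q) _ h2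
    refine ⟨t * s, q.primeCompl.mul_mem ht hs, t • w', ?_⟩
    rw [Matrix.mulVecLin_apply, Matrix.mulVec_smul, mul_smul]
    rw [smul_sub, sub_eq_zero] at h3
    exact h3.symm
  · intro h v hv
    obtain ⟨s, hs, v', hv'⟩ := exists_smul_eq_comp q.primeCompl (Localization.AtPrime q) v
    have h1 : algebraMap S (Localization.AtPrime q) ∘ (ψ.mulVec v') = 0 := by
      rw [← locMat_mulVec_comp, ← hv', Matrix.mulVec_smul, hv, smul_zero]
    obtain ⟨t, ht, h2⟩ := exists_smul_eq_zero_of_comp_eq_zero q.primeCompl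
      (Localization.AtPrime q) _ h1
    have h3 : ψ.mulVec (t • v') = 0 := by rw [Matrix.mulVec_smul, h2]
    obtain ⟨s', hs', w, hw⟩ := h _ h3
    rw [Matrix.mulVecLin_apply] at hw
    have hu : IsUnit (algebraMap S (Localization.AtPrime q) (s' * t * s)) :=
      IsLocalization.map_units (M := q.primeCompl) (Localization.AtPrime q)
        ⟨s' * t * s, q.primeCompl.mul_mem (q.primeCompl.mul_mem hs' ht) hs⟩
    obtain ⟨u, hu⟩ := hu
    refine ⟨(↑u⁻¹ : Localization.AtPrime q) • (algebraMap S (Localization.AtPrime q) ∘ w), ?_⟩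
    rw [Matrix.mulVecLin_apply, Matrix.mulVec_smul, locMat_mulVec_comp, hw, comp_smul, comp_smul,
      ← hv', smul_smul, smul_smul, smul_smul, mul_assoc, mul_assoc, ← map_mul, ← map_mul,
      ← mul_assoc, ← hu, Units.inv_mul, one_smul]

end Inj

section OpenInj

variable {S : Type u} [CommRing S] [IsNoetherianRing S]
variable {a b c : ℕ} (ψ : Matrix (Fin a) (Fin b) S) (χ : Matrix (Fin b) (Fin c) S)

/-- The homology module `ker ψ / (im χ ∩ ker ψ)`. -/
abbrev Hom : Type u :=
  ↥(LinearMap.ker ψ.mulVecLin) ⧸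
    (LinearMap.range χ.mulVecLin).comap (LinearMap.ker ψ.mulVecLin).subtype

theorem locExact_iff_notMem_support (q : PrimeSpectrum S) :
    LocExact q.asIdeal ψ χ ↔ q ∉ Module.support S (Hom ψ χ) := by
  rw [Module.notMem_support_iff']
  constructor
  · intro h m
    obtain ⟨⟨v, hv⟩, rfl⟩ := Submodule.Quotient.mk_surjective _ m
    rw [LinearMap.mem_ker, Matrix.mulVecLin_apply] at hv
    obtain ⟨s, hs, hsv⟩ := h v hv
    refine ⟨s, hs, ?_⟩
    rw [← Submodule.Quotient.mk_smul, Submodule.Quotient.mk_eq_zero, Submodule.mem_comap]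
    exact hsv
  · intro h v hv
    have hv' : v ∈ LinearMap.ker ψ.mulVecLin := by
      rw [LinearMap.mem_ker, Matrix.mulVecLin_apply]
      exact hv
    obtain ⟨s, hs, hsv⟩ := h (Submodule.Quotient.mk ⟨v, hv'⟩)
    refine ⟨s, hs, ?_⟩
    rw [← Submodule.Quotient.mk_smul, Submodule.Quotient.mk_eq_zero, Submodule.mem_comap] at hsv
    exact hsv

theorem isOpen_setOf_locExact : IsOpen {q : PrimeSpectrum S | LocExact q.asIdeal ψ χ} := by
  have h1 : {q : PrimeSpectrum S | LocExact q.asIdeal ψ χ} = (Module.support S (Hom ψ χ))ᶜ := by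
    ext q
    exact locExact_iff_notMem_support ψ χ q
  rw [h1, isOpen_compl_iff, Module.support_eq_zeroLocus]
  exact PrimeSpectrum.isClosed_zeroLocus _

end OpenInj

section Coker

variable {S : Type u} [CommRing S] (q : Ideal S) [q.IsPrime]
variable {a b : ℕ} (ψ : Matrix (Fin a) (Fin b) S)

/-- The cokernel of `ψ` over `S`. -/
abbrev Dq : Type u := (Fin a → S) ⧸ LinearMap.range ψ.mulVecLin

/-- The cokernel of `ψ` over `S_q`. -/
abbrev DqL : Type u :=
  (Fin a → Localization.AtPrime q) ⧸ LinearMap.range (locMat q ψ).mulVecLin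

/-- The componentwise localization map on vectors. -/
noncomputable def vecMap : (Fin a → S) →ₗ[S] (Fin a → Localization.AtPrime q) :=
  (Algebra.linearMap S (Localization.AtPrime q)).compLeft (Fin a)

theorem vecMap_apply (v : Fin a → S) :
    vecMap q v = algebraMap S (Localization.AtPrime q) ∘ v := rfl

/-- The localization map on cokernels. -/
noncomputable def cokerMap : Dq ψ →ₗ[S] DqL q ψ :=
  Submodule.liftQ _
    (((LinearMap.range (locMat q ψ).mulVecLin).mkQ.restrictScalars S).comp (vecMap q)) (by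
      rintro _ ⟨w, rfl⟩
      rw [LinearMap.mem_ker, LinearMap.comp_apply, LinearMap.restrictScalars_apply,
        Submodule.mkQ_apply, Submodule.Quotient.mk_eq_zero, vecMap_apply, Matrix.mulVecLin_apply,
        ← locMat_mulVec_comp]
      exact ⟨_, rfl⟩)

theorem cokerMap_mk (v : Fin a → S) :
    cokerMap q ψ (Submodule.Quotient.mk v) =
      Submodule.Quotient.mk (algebraMap S (Localization.AtPrime q) ∘ v) := rfl

instance isLocalizedModule_cokerMap : IsLocalizedModule q.primeCompl (cokerMap q ψ) where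
  map_units s := by
    rw [Module.End.isUnit_iff]
    obtain ⟨u, hu⟩ := IsLocalization.map_units (M := q.primeCompl) (Localization.AtPrime q) s
    have key : ∀ y : DqL q ψ, algebraMap S (Module.End S (DqL q ψ)) s y = (u : Localization.AtPrime q) • y := by
      intro y
      rw [Module.algebraMap_end_apply, hu, algebraMap_smul]
    constructor
    · intro x y hxy
      rw [key, key] at hxy
      have := congrArg (fun z => (↑u⁻¹ : Localization.AtPrime q) • z) hxy
      simpa [smul_smul] using this
    · intro y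
      refine ⟨(↑u⁻¹ : Localization.AtPrime q) • y, ?_⟩
      rw [key, smul_smul, Units.mul_inv, one_smul]
  surj y := by
    obtain ⟨v, rfl⟩ := Submodule.Quotient.mk_surjective _ y
    obtain ⟨s, hs, v', hv'⟩ := exists_smul_eq_comp q.primeCompl (Localization.AtPrime q) v
    refine ⟨⟨Submodule.Quotient.mk v', ⟨s, hs⟩⟩, ?_⟩
    rw [cokerMap_mk, ← hv']
    change s • (Submodule.Quotient.mk v : DqL q ψ) = _
    rw [← algebraMap_smul (Localization.AtPrime q) s, Submodule.Quotient.mk_smul]
  exists_of_eq := by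
    intro x₁ x₂ h
    obtain ⟨v₁, rfl⟩ := Submodule.Quotient.mk_surjective _ x₁
    obtain ⟨v₂, rfl⟩ := Submodule.Quotient.mk_surjective _ x₂
    rw [cokerMap_mk, cokerMap_mk, Submodule.Quotient.eq] at h
    obtain ⟨w, hw⟩ := h
    rw [Matrix.mulVecLin_apply] at hw
    obtain ⟨s, hs, w', hw'⟩ := exists_smul_eq_comp q.primeCompl (Localization.AtPrime q) w
    have h2 : algebraMap S (Localization.AtPrime q) ∘ (s • (v₁ - v₂) - ψ.mulVec w') = 0 := by
      have e1 : algebraMap S (Localization.AtPrime q) ∘ (s • (v₁ - v₂) - ψ.mulVec w') =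
          algebraMap S (Localization.AtPrime q) s •
            (algebraMap S (Localization.AtPrime q) ∘ v₁ -
              algebraMap S (Localization.AtPrime q) ∘ v₂) -
            algebraMap S (Localization.AtPrime q) ∘ (ψ.mulVec w') := by
        funext j
        simp [Algebra.smul_def]
      rw [e1, ← locMat_mulVec_comp, ← hw', Matrix.mulVec_smul, hw, sub_self]
    obtain ⟨t, ht, h3⟩ := exists_smul_eq_zero_of_comp_eq_zero q.primeCompl
      (Localization.AtPrime q) _ h2
    refine ⟨⟨t * s, q.primeCompl.mul_mem ht hs⟩, ?_⟩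
    change (t * s) • (Submodule.Quotient.mk v₁ : Dq ψ) = (t * s) • Submodule.Quotient.mk v₂
    rw [← Submodule.Quotient.mk_smul, ← Submodule.Quotient.mk_smul, Submodule.Quotient.eq]
    refine ⟨t • w', ?_⟩
    rw [Matrix.mulVecLin_apply, Matrix.mulVec_smul, ← smul_sub, mul_smul]
    rw [smul_sub, sub_eq_zero] at h3
    exact h3.symm

end Coker

section Main

variable {R S : Type u} [CommRing R] [CommRing S] [Algebra R S]
variable {a b c : ℕ} (ψ : Matrix (Fin a) (Fin b) S) (χ : Matrix (Fin b) (Fin c) S)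

theorem flat_DqL_iff (q : PrimeSpectrum S) :
    Module.Flat R (DqL q.asIdeal ψ) ↔
      q ∈ Groth.Agent.H1.FlatLocus.flatLocus R (S := S) (Dq ψ) := by
  let e : LocalizedModule q.asIdeal.primeCompl (Dq ψ) ≃ₗ[S] DqL q.asIdeal ψ :=
    IsLocalizedModule.iso q.asIdeal.primeCompl (cokerMap q.asIdeal ψ)
  let eR : LocalizedModule q.asIdeal.primeCompl (Dq ψ) ≃ₗ[R] DqL q.asIdeal ψ :=
    e.restrictScalars R
  constructor
  · intro h
    exact Module.Flat.of_linearEquiv eR
  · intro h
    haveI : Module.Flat R (LocalizedModule q.asIdeal.primeCompl (Dq ψ)) := h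
    exact Module.Flat.of_linearEquiv eR.symm

/-- **Openness of the fibrewise exactness locus of a pair of composable matrices.** -/
theorem isOpen_setOf_ker_eq_range [IsNoetherianRing R] [Algebra.FiniteType R S] [Module.Flat R S]
    (h0 : ψ * χ = 0) :
    IsOpen {q : PrimeSpectrum S |
      LinearMap.ker (Matrix.mulVecLin
        (ψ.map (algebraMap S (Localization.AtPrime q.asIdeal ⧸ fibIdeal R q.asIdeal)))) =
      LinearMap.range (Matrix.mulVecLin
        (χ.map (algebraMap S (Localization.AtPrime q.asIdeal ⧸ fibIdeal R q.asIdeal))))} := by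
  haveI : IsNoetherianRing S := Algebra.FiniteType.isNoetherianRing R S
  have h1 : {q : PrimeSpectrum S |
      LinearMap.ker (Matrix.mulVecLin
        (ψ.map (algebraMap S (Localization.AtPrime q.asIdeal ⧸ fibIdeal R q.asIdeal)))) =
      LinearMap.range (Matrix.mulVecLin
        (χ.map (algebraMap S (Localization.AtPrime q.asIdeal ⧸ fibIdeal R q.asIdeal))))} =
      {q : PrimeSpectrum S | LocExact q.asIdeal ψ χ} ∩
        Groth.Agent.H1.FlatLocus.flatLocus R (S := S) (Dq ψ) := by
    ext q
    rw [Set.mem_inter_iff]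
    change _ = _ ↔ _
    rw [ker_eq_range_iff_fibInj q.asIdeal ψ χ h0]
    constructor
    · intro h
      obtain ⟨hinj, hflat⟩ := injective_and_flat_of_fibInj q.asIdeal ψ χ h0 h
      exact ⟨(injective_uq_iff_locExact q.asIdeal ψ χ h0).mp hinj, (flat_DqL_iff ψ q).mp hflat⟩
    · rintro ⟨h2, h3⟩
      exact fibInj_of_injective_of_flat q.asIdeal ψ χ h0
        ((injective_uq_iff_locExact q.asIdeal ψ χ h0).mpr h2) ((flat_DqL_iff ψ q).mpr h3)
  rw [h1]
  exact (isOpen_setOf_locExact ψ χ).inter
    Groth.Agent.H1.FlatLocus.isOpen_flatLocus_of_isNoetherianRing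

end Main

end Groth.Agent.H46.FibExactOpen
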