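import Mathlib
import Groth.Prelude.Def_EGA4b
import Groth.Agent.H46.FibExactOpen.Open

/-!
# Openness of the fibrewise exactness locus of a finite free complex (flat finite type algebra over
a Noetherian ring)
-/

set_option autoImplicit false
set_option linter.style.haveILetI false
universe u

namespace Groth.Agent.H46.FibExactOpen

section Final

variable {R S : Type u} [CommRing R] [IsNoetherianRing R] [CommRing S] [Algebra R S]
  [Algebra.FiniteType R S] [Module.Flat R S]

theorem isOpen_setOf_ker_eq_range' {a b c : ℕ} (ψ : Matrix (Fin a) (Fin b) S)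
    (χ : Matrix (Fin b) (Fin c) S) (h0 : ψ * χ = 0) :
    IsOpen {q : PrimeSpectrum S |
      LinearMap.ker (Matrix.mulVecLin (ψ.map (algebraMap S (EGA4.FibLocRing R S q.asIdeal)))) =
      LinearMap.range (Matrix.mulVecLin (χ.map (algebraMap S (EGA4.FibLocRing R S q.asIdeal))))} :=
  isOpen_setOf_ker_eq_range ψ χ h0

theorem isOpen_setOf_injective {a b : ℕ} (ψ : Matrix (Fin a) (Fin b) S) :
    IsOpen {q : PrimeSpectrum S | Function.Injective
      (Matrix.mulVecLin (ψ.map (algebraMap S (EGA4.FibLocRing R S q.asIdeal))))} := by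
  have h := isOpen_setOf_ker_eq_range' (R := R) ψ (0 : Matrix (Fin b) (Fin 0) S) (by simp)
  convert h using 2
  ext q
  rw [← LinearMap.ker_eq_bot]
  have : ((0 : Matrix (Fin b) (Fin 0) S).map
      (algebraMap S (EGA4.FibLocRing R S q.asIdeal))) = 0 := Matrix.map_zero _ (map_zero _)
  rw [this, Matrix.mulVecLin_zero, LinearMap.range_zero]

/-- The full statement. -/
theorem isOpen_setOf_fibrewise_exact (e : ℕ) (n : ℕ → ℕ)
    (φ : (i : ℕ) → Matrix (Fin (n i)) (Fin (n (i + 1))) S)
    (hφ : ∀ i, i + 2 ≤ e → φ i * φ (i + 1) = 0) :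
    IsOpen {q : PrimeSpectrum S |
      (∀ i, i + 2 ≤ e →
        LinearMap.ker (Matrix.mulVecLin ((φ i).map (algebraMap S (EGA4.FibLocRing R S q.asIdeal)))) =
          LinearMap.range (Matrix.mulVecLin ((φ (i + 1)).map (algebraMap S (EGA4.FibLocRing R S q.asIdeal))))) ∧
      (1 ≤ e → Function.Injective
        (Matrix.mulVecLin ((φ (e - 1)).map (algebraMap S (EGA4.FibLocRing R S q.asIdeal)))))} := by
  have h1 : {q : PrimeSpectrum S |
      (∀ i, i + 2 ≤ e →
        LinearMap.ker (Matrix.mulVecLin ((φ i).map (algebraMap S (EGA4.FibLocRing R S q.asIdeal)))) =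
          LinearMap.range (Matrix.mulVecLin ((φ (i + 1)).map (algebraMap S (EGA4.FibLocRing R S q.asIdeal))))) ∧
      (1 ≤ e → Function.Injective
        (Matrix.mulVecLin ((φ (e - 1)).map (algebraMap S (EGA4.FibLocRing R S q.asIdeal)))))} =
      (⋂ i ∈ {i : ℕ | i + 2 ≤ e}, {q : PrimeSpectrum S |
        LinearMap.ker (Matrix.mulVecLin ((φ i).map (algebraMap S (EGA4.FibLocRing R S q.asIdeal)))) =
          LinearMap.range (Matrix.mulVecLin ((φ (i + 1)).map (algebraMap S (EGA4.FibLocRing R S q.asIdeal))))}) ∩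
      {q : PrimeSpectrum S | 1 ≤ e → Function.Injective
        (Matrix.mulVecLin ((φ (e - 1)).map (algebraMap S (EGA4.FibLocRing R S q.asIdeal))))} := by
    ext q
    simp only [Set.mem_setOf_eq, Set.mem_inter_iff, Set.mem_iInter]
  rw [h1]
  refine IsOpen.inter ?_ ?_
  · have hfin : {i : ℕ | i + 2 ≤ e}.Finite :=
      (Set.finite_lt_nat e).subset fun i hi => by
        simp only [Set.mem_setOf_eq] at hi ⊢
        omega
    exact hfin.isOpen_biInter fun i hi => isOpen_setOf_ker_eq_range' (R := R) (φ i) (φ (i + 1))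
      (hφ i hi)
  · by_cases he : 1 ≤ e
    · simp only [he, forall_true_left]
      exact isOpen_setOf_injective (R := R) (φ (e - 1))
    · simp only [he, false_imp_iff, Set.setOf_true]
      exact isOpen_univ

end Final

end Groth.Agent.H46.FibExactOpen
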